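import Mathlib

/-! Automorphisms and subdirect subgroups of a power of a non-abelian simple group. -/

set_option autoImplicit false
set_option linter.unusedSectionVars false

namespace Cfsg.Lib.SimplePower

variable {ι T : Type*} [Fintype ι] [DecidableEq ι] [Group T] [IsSimpleGroup T]
  (hT : ∃ a b : T, a * b ≠ b * a)
include hT

theorem exists_not_commute {c : T} (hc : c ≠ 1) : ∃ t : T, t * c ≠ c * t := by
  by_contra h
  push Not at h
  have hm : c ∈ Subgroup.center T := Subgroup.mem_center_iff.2 h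
  rcases (Subgroup.center T).normal_of_characteristic.eq_bot_or_eq_top with hb | hb
  · rw [hb, Subgroup.mem_bot] at hm; exact hc hm
  · obtain ⟨a, b, hab⟩ := hT
    exact hab (Subgroup.mem_center_iff.1 (hb ▸ Subgroup.mem_top b) a)

theorem eq_top_of_ne {X : Subgroup T} (hn : X.Normal) {c : T} (hcX : c ∈ X) (hc : c ≠ 1) : X = ⊤ :=
  hn.eq_bot_or_eq_top.resolve_left fun h => hc (by rwa [h, Subgroup.mem_bot] at hcX)

theorem single_le_of_ne {X : Subgroup (ι → T)} (hn : X.Normal) {x : ι → T} (hx : x ∈ X) {i : ι} (hi : x i ≠ 1)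
    (s : T) : Pi.mulSingle i s ∈ X := by
  obtain ⟨t, ht⟩ := exists_not_commute hT hi
  have hm : Pi.mulSingle i (t * x i * t⁻¹ * (x i)⁻¹) ∈ X := by
    have h : Pi.mulSingle i t * x * (Pi.mulSingle i t : ι → T)⁻¹ * x⁻¹ ∈ X :=
      mul_mem (hn.conj_mem x hx _) (inv_mem hx)
    convert h using 1
    funext j
    by_cases hj : j = i
    · subst hj; simp
    · simp [hj]
  have hcn : (X.comap (MonoidHom.mulSingle (fun _ : ι => T) i)).Normal := hn.comap _
  have htop := eq_top_of_ne hT hcn (show t * x i * t⁻¹ * (x i)⁻¹ ∈ _ from hm) (fun h => ht (by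
    rw [mul_inv_eq_one, mul_inv_eq_iff_eq_mul] at h; exact h))
  exact (htop ▸ Subgroup.mem_top s : s ∈ X.comap (MonoidHom.mulSingle (fun _ : ι => T) i))

/-- The factor at `i`. -/
def factor (i : ι) : Subgroup (ι → T) := (MonoidHom.mulSingle (fun _ : ι => T) i).range

theorem mem_factor {i : ι} {x : ι → T} : x ∈ factor (T := T) i ↔ ∀ j, j ≠ i → x j = 1 := by
  constructor
  · rintro ⟨s, rfl⟩ j hj
    exact (Pi.mulSingle_eq_of_ne (M := fun _ : ι => T) hj s)
  · intro h
    refine ⟨x i, funext fun j => ?_⟩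
    show (Pi.mulSingle i (x i) : ι → T) j = x j
    by_cases hj : j = i
    · subst hj; simp
    · simp [hj, h j hj]

theorem factor_normal (i : ι) : (factor (T := T) i).Normal := ⟨fun x hx g => by
  rw [mem_factor hT] at hx ⊢
  intro j hj
  simp [hx j hj]⟩

theorem coord_eq_one_iff {i : ι} {x : ι → T} : x i = 1 ↔ ∀ y ∈ factor (T := T) i, x * y = y * x := by
  constructor
  · intro h y hy
    funext j
    by_cases hj : j = i
    · subst hj; simp [h]
    · simp [(mem_factor hT).1 hy j hj]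
  · intro h
    by_contra hi
    obtain ⟨t, ht⟩ := exists_not_commute hT hi
    have h1 := congrFun (h (Pi.mulSingle i t) ⟨t, rfl⟩) i
    simp only [Pi.mul_apply, Pi.mulSingle_eq_same] at h1
    exact ht h1.symm

theorem exists_factor_le (f : (ι → T) ≃* (ι → T)) (i : ι) :
    ∃ j, factor (T := T) j ≤ (factor (T := T) i).map f.toMonoidHom := by
  have hn := (factor_normal hT i).map f.toMonoidHom f.surjective
  obtain ⟨a, b, hab⟩ := hT
  obtain ⟨t, ht⟩ : ∃ t : T, t ≠ 1 := ⟨a, fun h => hab (by rw [h, one_mul, mul_one])⟩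
  obtain ⟨j, hj⟩ : ∃ j, f (Pi.mulSingle i t) j ≠ 1 := by
    by_contra h
    push Not at h
    have h1 : f (Pi.mulSingle i t) = 1 := funext h
    rw [MulEquiv.map_eq_one_iff] at h1
    exact ht (by simpa using congrFun h1 i)
  refine ⟨j, ?_⟩
  rintro _ ⟨s, rfl⟩
  exact single_le_of_ne ⟨a, b, hab⟩ hn (show f (Pi.mulSingle i t) ∈ _ from ⟨_, ⟨t, rfl⟩, rfl⟩) hj s

/-- An automorphism permutes the coordinates. -/
theorem exists_perm (f : (ι → T) ≃* (ι → T)) :
    ∃ σ : Equiv.Perm ι, ∀ i, (∀ x, f x (σ i) = 1 ↔ x i = 1) ∧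
      ∀ y ∈ factor (T := T) i, f y ∈ factor (T := T) (σ i) := by
  have hex : ∀ i, ∃ j, (factor (T := T) i).map f.toMonoidHom = factor (T := T) j := by
    intro i
    obtain ⟨j, hj⟩ := exists_factor_le hT f i
    obtain ⟨k, hk⟩ := exists_factor_le hT f.symm j
    have hki : k = i := by
      obtain ⟨a, b, hab⟩ := hT
      obtain ⟨t, ht⟩ : ∃ t : T, t ≠ 1 := ⟨a, fun h => hab (by rw [h, one_mul, mul_one])⟩
      obtain ⟨y, hy, he⟩ := hk (show Pi.mulSingle k t ∈ factor (T := T) k from ⟨t, rfl⟩)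
      obtain ⟨z, hz, rfl⟩ := hj hy
      have hzk : z = Pi.mulSingle k t := (f.symm_apply_apply z).symm.trans he
      by_contra hne
      exact ht (by simpa [hzk] using (mem_factor ⟨a, b, hab⟩).1 hz k hne)
    refine ⟨j, le_antisymm ?_ hj⟩
    rintro _ ⟨y, hy, rfl⟩
    obtain ⟨z, hz, he⟩ := hk (hki.symm ▸ hy)
    show f y ∈ _
    rw [← he]
    simpa using hz
  choose σ hσ using hex
  have hco : ∀ i x, f x (σ i) = 1 ↔ x i = 1 := by
    intro i x
    rw [coord_eq_one_iff hT, coord_eq_one_iff hT]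
    constructor
    · intro h y hy
      exact f.injective (by rw [map_mul, map_mul]; exact h _ (hσ i ▸ ⟨y, hy, rfl⟩))
    · intro h y hy
      rw [← hσ i] at hy
      obtain ⟨z, hz, rfl⟩ := hy
      show f x * f z = f z * f x
      rw [← map_mul, ← map_mul, h z hz]
  have hinj : Function.Injective σ := fun i i' h => by
    by_contra hne
    obtain ⟨a, b, hab⟩ := hT
    obtain ⟨t, ht⟩ : ∃ t : T, t ≠ 1 := ⟨a, fun h => hab (by rw [h, one_mul, mul_one])⟩
    have h1 := (hco i' (Pi.mulSingle i t)).2 (by simp [Ne.symm hne])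
    rw [← h, hco i] at h1
    exact ht (by simpa using h1)
  exact ⟨Equiv.ofBijective σ hinj.bijective_of_finite, fun i =>
    ⟨fun x => hco i x, fun y hy => (hσ i).le ⟨y, hy, rfl⟩⟩⟩

variable {M : Subgroup (ι → T)} (hsur : ∀ i, ∀ t : T, ∃ x ∈ M, x i = t)
include hsur

theorem same_kernel {i r : ι} (h : ∀ x ∈ M, x i = 1 → x r = 1) : ∀ x ∈ M, x r = 1 → x i = 1 := by
  intro x hx hxr
  by_contra hxi
  have htop : ∀ t : T, ∃ y ∈ M, y r = 1 ∧ y i = t := by
    let X : Subgroup T := (M ⊓ (Pi.evalMonoidHom (fun _ : ι => T) r).ker).map (Pi.evalMonoidHom (fun _ : ι => T) i)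
    have hn : X.Normal := ⟨by
      rintro _ ⟨y, hy, rfl⟩ g
      obtain ⟨hyM, hyr⟩ := Subgroup.mem_inf.1 hy
      obtain ⟨z, hz, rfl⟩ := hsur i g
      refine ⟨z * y * z⁻¹, Subgroup.mem_inf.2 ⟨mul_mem (mul_mem hz hyM) (inv_mem hz), ?_⟩, rfl⟩
      show z r * y r * (z r)⁻¹ = 1
      rw [show y r = 1 from hyr, mul_one, mul_inv_cancel]⟩
    have hX := eq_top_of_ne hT hn (show x i ∈ X from ⟨x, Subgroup.mem_inf.2 ⟨hx, hxr⟩, rfl⟩) hxi
    intro t
    obtain ⟨y, hy, he⟩ := (hX ▸ Subgroup.mem_top t : t ∈ X)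
    exact ⟨y, (Subgroup.mem_inf.1 hy).1, (Subgroup.mem_inf.1 hy).2, he⟩
  obtain ⟨a, b, hab⟩ := hT
  obtain ⟨z, hz, hza⟩ := hsur r a
  obtain ⟨y, hy, hyr, hyi⟩ := htop (z i)
  have h1 := h (z * y⁻¹) (mul_mem hz (inv_mem hy)) (by simp [hyi])
  simp only [Pi.mul_apply, Pi.inv_apply, hyr, inv_one, mul_one, hza] at h1
  exact hab (by rw [h1, one_mul, mul_one])

/-- Some element of `M` is arbitrary at `r` and trivial at all coordinates with another kernel. -/
theorem separate (r : ι) (t : T) :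
    ∃ x ∈ M, x r = t ∧ ∀ j, ¬ (∀ y ∈ M, y r = 1 ↔ y j = 1) → x j = 1 := by
  suffices ∀ S : Finset ι, (∀ j ∈ S, ¬ (∀ y ∈ M, y r = 1 ↔ y j = 1)) →
      ∀ t : T, ∃ x ∈ M, x r = t ∧ ∀ j ∈ S, x j = 1 by
    classical
    obtain ⟨x, hx, hxr, hxS⟩ := this (Finset.univ.filter fun j => ¬ (∀ y ∈ M, y r = 1 ↔ y j = 1))
      (fun j hj => (Finset.mem_filter.1 hj).2) t
    exact ⟨x, hx, hxr, fun j hj => hxS j (Finset.mem_filter.2 ⟨Finset.mem_univ _, hj⟩)⟩
  intro S
  induction S using Finset.induction with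
  | empty => exact fun _ t => (hsur r t).imp fun x hx => ⟨hx.1, hx.2, fun j hj => absurd hj (Finset.notMem_empty j)⟩
  | insert j S hjS ih =>
    intro hS
    have ih' := ih fun i hi => hS i (Finset.mem_insert_of_mem hi)
    obtain ⟨y, hy, hyj, hyr⟩ : ∃ y ∈ M, y j = 1 ∧ y r ≠ 1 := by
      by_contra h
      push Not at h
      exact hS j (Finset.mem_insert_self _ _) fun y hy => ⟨same_kernel hT hsur h y hy, h y hy⟩
    let X : Subgroup T :=
      { carrier := {t | ∃ x ∈ M, x r = t ∧ ∀ i ∈ insert j S, x i = 1}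
        one_mem' := ⟨1, one_mem M, rfl, fun _ _ => rfl⟩
        mul_mem' := by
          rintro _ _ ⟨x, hx, rfl, h1⟩ ⟨z, hz, rfl, h2⟩
          exact ⟨x * z, mul_mem hx hz, rfl, fun i hi => by simp [h1 i hi, h2 i hi]⟩
        inv_mem' := by
          rintro _ ⟨x, hx, rfl, h1⟩
          exact ⟨x⁻¹, inv_mem hx, rfl, fun i hi => by simp [h1 i hi]⟩ }
    have hn : X.Normal := ⟨by
      rintro _ ⟨x, hx, rfl, h1⟩ g
      obtain ⟨z, hz, rfl⟩ := hsur r g
      exact ⟨z * x * z⁻¹, mul_mem (mul_mem hz hx) (inv_mem hz), rfl, fun i hi => by simp [h1 i hi]⟩⟩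
    obtain ⟨s, hs⟩ := exists_not_commute hT hyr
    obtain ⟨x, hx, hxr, hxS⟩ := ih' s
    have hmem : s * y r * s⁻¹ * (y r)⁻¹ ∈ X := by
      refine ⟨x * y * x⁻¹ * y⁻¹, mul_mem (mul_mem (mul_mem hx hy) (inv_mem hx)) (inv_mem hy), by simp [hxr],
        fun i hi => ?_⟩
      rcases Finset.mem_insert.1 hi with rfl | hi
      · simp [hyj]
      · simp [hxS i hi]
    have htop := eq_top_of_ne hT hn hmem fun h => hs (by
      rw [mul_inv_eq_one, mul_inv_eq_iff_eq_mul] at h; exact h)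
    exact fun t => (htop ▸ Subgroup.mem_top t : t ∈ X)

/-- A subdirect subgroup is a product of diagonals. -/
theorem subdirect [Finite T] :
    ∃ (c : ι → ι) (f : ι → (T ≃* T)), (∀ i j, c i = c j ↔ ∀ y ∈ M, y i = 1 ↔ y j = 1) ∧
      (∀ x, x ∈ M ↔ ∀ i j, c i = c j → f i (x i) = f j (x j)) := by
  classical
  let R : Setoid ι := ⟨fun i j => ∀ y ∈ M, y i = 1 ↔ y j = 1,
    ⟨fun _ _ _ => Iff.rfl, fun h y hy => (h y hy).symm, fun h h' y hy => (h y hy).trans (h' y hy)⟩⟩
  let c : ι → ι := fun i => (Quotient.mk R i).out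
  have hc : ∀ i j, c i = c j ↔ ∀ y ∈ M, y i = 1 ↔ y j = 1 := fun i j =>
    ⟨fun h => (Quotient.eq (r := R)).1 (Quotient.out_injective h), fun h => congrArg Quotient.out (Quotient.sound (s := R) h)⟩
  have hck : ∀ i, c (c i) = c i := fun i => congrArg Quotient.out (Quotient.out_eq (Quotient.mk R i))
  choose y hyM hyr hy0 using fun i t => separate hT hsur (c i) t
  have hrel : ∀ i, ∀ x ∈ M, x (c i) = 1 ↔ x i = 1 := fun i => (hc (c i) i).1 (hck i)
  have hdet : ∀ i, ∀ x ∈ M, y i (x (c i)) i = x i := fun i x hx => by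
    have h := (hrel i (y i (x (c i)) * x⁻¹) (mul_mem (hyM _ _) (inv_mem hx))).1 (by simp [hyr])
    simpa [mul_inv_eq_one] using h
  let g : ι → (T →* T) := fun i =>
    { toFun := fun t => y i t i
      map_one' := by have := hdet i 1 (one_mem M); simpa using this
      map_mul' := fun s t => by
        have := hdet i (y i s * y i t) (mul_mem (hyM i s) (hyM i t))
        simpa [hyr] using this }
  have hg : ∀ i, Function.Bijective (g i) := fun i => Finite.injective_iff_bijective.1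
    ((injective_iff_map_eq_one (g i)).2 fun t ht => by
      have := (hrel i (y i t) (hyM i t)).2 ht
      rwa [hyr] at this)
  let f : ι → (T ≃* T) := fun i => (MulEquiv.ofBijective (g i) (hg i)).symm
  have hf : ∀ i, ∀ x ∈ M, f i (x i) = x (c i) := fun i x hx => by
    rw [MulEquiv.symm_apply_eq]
    exact (hdet i x hx).symm
  refine ⟨c, f, hc, fun x => ⟨fun hx i j h => by rw [hf i x hx, hf j x hx, h], fun h => ?_⟩⟩
  suffices ∀ S : Finset ι, ∃ z ∈ M, ∀ i, (c i ∈ S → z i = x i) ∧ (c i ∉ S → z i = 1) by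
    obtain ⟨z, hz, hzx⟩ := this Finset.univ
    rwa [← funext fun i => (hzx i).1 (Finset.mem_univ _)]
  intro S
  induction S using Finset.induction with
  | empty => exact ⟨1, one_mem M, fun i => ⟨fun h => absurd h (Finset.notMem_empty _), fun _ => rfl⟩⟩
  | insert r S hrS ih =>
    obtain ⟨z, hz, hzx⟩ := ih
    by_cases hr : ∃ i, c i = r
    · obtain ⟨i₀, rfl⟩ := hr
      refine ⟨y i₀ (x (c i₀)) * z, mul_mem (hyM _ _) hz, fun i => ?_⟩
      have hne : c i ≠ c i₀ → y i₀ (x (c i₀)) i = 1 := fun hne => hy0 _ _ i fun h' =>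
        hne ((hc i (c i₀)).2 (fun w hw => (h' w hw).symm) |>.trans (hck i₀))
      constructor
      · intro hi
        rcases Finset.mem_insert.1 hi with hi | hi
        · have h1 : z i = 1 := (hzx i).2 (hi ▸ hrS)
          have h2 : f i (x i) = x (c i) := by
            have h3 := h i (c i) (hck i).symm
            rw [h3]
            obtain ⟨w, hw, hw'⟩ := hsur (c i) (x (c i))
            rw [← hw', hf (c i) w hw, hck]
          rw [Pi.mul_apply, h1, mul_one, ← (f i).injective.eq_iff, hf i _ (hyM _ _), h2, hi, hyr]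
        · rw [Pi.mul_apply, hne (fun e => hrS (e ▸ hi)), one_mul, (hzx i).1 hi]
      · intro hi
        rw [Finset.mem_insert, not_or] at hi
        rw [Pi.mul_apply, hne hi.1, one_mul, (hzx i).2 hi.2]
    · push Not at hr
      refine ⟨z, hz, fun i => ⟨fun hi => (hzx i).1 ((Finset.mem_insert.1 hi).resolve_left (hr i)),
        fun hi => (hzx i).2 fun h' => hi (Finset.mem_insert_of_mem h')⟩⟩

end Cfsg.Lib.SimplePower
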